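import Groth.Agent.Red.K216.NormalSub
import Groth.Agent.Red.K216.DecDef
import Groth.Agent.Sga3B.Parab.Retr
import Groth.Agent.Sga3.H828.SubgrpObj
import Groth.Agent.PicF.K245.OverEq

/-!
# Fixed points of an equivariant idempotent endomorphism of a semisimple group scheme

`K502.FixIdem.nodeF`: the fixed points of an idempotent endomorphism `φ` of a semisimple group scheme `G` which is
equivariant for conjugation form a normal closed semisimple subgroup `F`, and `φ` factors through a retraction `G ⟶ F`.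
-/

set_option autoImplicit false
universe u

open CategoryTheory MonoidalCategory CartesianMonoidalCategory MonObj GrpObj AlgebraicGeometry Limits

namespace K502.FixIdem

open Groth.Agent.Sga3B

/-- The fixed points of an endomorphism. -/
def fixSub {C : Type*} [Category C] [CartesianMonoidalCategory C] {G : C} [GrpObj G] (φ : G ⟶ G) [IsMonHom φ]
    (X : C) : Subgroup (X ⟶ G) where
  carrier := {x | x ≫ φ = x}
  mul_mem' {a b} ha hb := by
    change (a * b) ≫ φ = a * b
    rw [MonObj.mul_comp]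
    exact congrArg₂ _ ha hb
  one_mem' := by
    change (1 : X ⟶ G) ≫ φ = 1
    exact MonObj.one_comp _
  inv_mem' {a} ha := by
    change (a⁻¹) ≫ φ = a⁻¹
    rw [GrpObj.inv_comp]
    exact congrArg _ ha

theorem mem_fixSub {C : Type*} [Category C] [CartesianMonoidalCategory C] {G : C} [GrpObj G] (φ : G ⟶ G) [IsMonHom φ]
    {X : C} (x : X ⟶ G) : x ∈ fixSub φ X ↔ x ≫ φ = x := Iff.rfl

theorem nodeF {B : Scheme.{u}} {G : Over B} [GrpObj G] (hG : Red.IsSemisimple G) (φ : G ⟶ G) [IsMonHom φ]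
    (hid : φ ≫ φ = φ)
    (heq : ∀ (X : Over B) (h g : X ⟶ G), (h * g * h⁻¹) ≫ φ = h * (g ≫ φ) * h⁻¹) :
    ∃ (F : Over B) (_ : GrpObj F) (i : F ⟶ G) (q : G ⟶ F), IsMonHom i ∧ IsMonHom q ∧
      IsClosedImmersion i.left ∧ i ≫ q = 𝟙 F ∧ q ≫ i = φ ∧ AlgGrp.IsNormalHom i ∧ Red.IsSemisimple F := by
  obtain ⟨hA, hsm, hss⟩ := hG
  obtain ⟨F, i, hcl, -, hi, huniv⟩ := K245.OverEq.exists_equalizer φ (𝟙 G)
  have hmono : Mono i := ⟨fun {Z} a b hab => by
    have h1 : (b ≫ i) ≫ φ = (b ≫ i) ≫ 𝟙 G := by rw [Category.assoc, Category.assoc, hi]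
    obtain ⟨t, -, ht⟩ := huniv Z (b ≫ i) h1
    rw [ht a hab, ht b rfl]⟩
  have hi' : i ≫ φ = i := by rw [hi, Category.comp_id]
  have hfix : ∀ (X : Over B) (x : X ⟶ G), x ∈ fixSub φ X ↔ ∃ t : X ⟶ F, t ≫ i = x := by
    intro X x
    rw [mem_fixSub]
    constructor
    · intro h
      obtain ⟨t, ht, -⟩ := huniv X x (by rw [h, Category.comp_id])
      exact ⟨t, ht⟩
    · rintro ⟨t, rfl⟩
      rw [Category.assoc, hi']
  obtain ⟨hgrp, himon⟩ := Groth.Agent.Sga3.H828.SubgrpObj.exists_grpObj (fixSub φ)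
    (fun {X Y} f x hx => by
      rw [mem_fixSub] at hx ⊢
      rw [Category.assoc, hx]) i hfix
  obtain ⟨q, hq, -⟩ := huniv G φ (by rw [hid, Category.comp_id])
  have hiq : i ≫ q = 𝟙 F := by
    rw [← cancel_mono i, Category.assoc, hq, hi', Category.id_comp]
  have hqmon : IsMonHom q := Pts.isMonHom_of_points _ fun X x y => by
    have e1 : ((x * y) ≫ q) ≫ i = (x ≫ φ) * (y ≫ φ) := by
      rw [Category.assoc, hq]
      exact MonObj.mul_comp x y φ
    have e2 : ((x ≫ q) * (y ≫ q)) ≫ i = (x ≫ φ) * (y ≫ φ) := by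
      refine (MonObj.mul_comp (x ≫ q) (y ≫ q) i).trans ?_
      rw [Category.assoc, Category.assoc, hq]
    exact (cancel_mono i).1 (e1.trans e2.symm)
  have hnorm : AlgGrp.IsNormalHom i := by
    intro T g n
    have h1 : g * (n ≫ i) * g⁻¹ ∈ fixSub φ T := by
      rw [mem_fixSub, heq, Category.assoc, hi']
    obtain ⟨n', hn'⟩ := (hfix T _).1 h1
    exact ⟨n', hn'.symm⟩
  have hFa : IsAffineHom F.hom := by
    rw [← Over.w i]
    infer_instance
  have hFs : Smooth F.hom := Parab.Retr.smooth_of_retract i q hiq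
  refine ⟨F, hgrp, i, q, himon, hqmon, hcl, hiq, hq, hnorm, hFa, hFs, fun s => ?_⟩
  have h1 : ConnectedSpace (Red.geomFibre s F).left :=
    Parab.Retr.connectedSpace_of_retract (Red.geomPt s) i q hiq (hss s).1.2.2.1
  have h2 : IsClosedImmersion ((Over.pullback (Red.geomPt s)).map i).left :=
    MorphismProperty.of_isPullback (SplitBc264.isPullback_map_left (Red.geomPt s) i) hcl
  have h3 : Smooth (Red.geomFibre s F).hom := by
    change Smooth (pullback.snd F.hom (Red.geomPt s))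
    infer_instance
  exact (K216.NormalSub.isSemisimpleOver_of_normal _ h2 h3 h1 (NormBc.isNormalHom_bc _ i hnorm) (hss s)).1

end K502.FixIdem
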